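import Cfsg.Agent.Components.Quasisimple
import Cfsg.Agent.Components.Misc.KSections
import Cfsg.Agent.Schur.Criteria
import Cfsg.Prelude.Def_SevenCases

/-!
# Quotients of quasisimple groups and invariance of the lists under isomorphism
-/

set_option autoImplicit false
set_option linter.style.haveILetI false

namespace Cfsg.Lib.CpQuot

open Subgroup

universe u v w

variable {K : Type u} [Group K]

theorem le_center (h : Cfsg.IsQuasisimple K) {N : Subgroup K} [N.Normal] (hN : N ≠ ⊤) : N ≤ center K := by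
  haveI := h.2
  have hc : Subgroup.map (QuotientGroup.mk' (center K)) N = ⊥ ∨ Subgroup.map (QuotientGroup.mk' (center K)) N = ⊤ :=
    (Subgroup.Normal.map inferInstance _ (QuotientGroup.mk'_surjective _)).eq_bot_or_eq_top
  rcases hc with hc | hc
  · rwa [Subgroup.map_eq_bot_iff, QuotientGroup.ker_mk'] at hc
  · refine absurd ?_ hN
    apply Cfsg.Lib.Components.eq_top_of_sup_center_eq_top (Cfsg.Lib.Components.qs_commutator_top h)
    have := congrArg (Subgroup.comap (QuotientGroup.mk' (center K))) hc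
    rwa [comap_map_eq, QuotientGroup.ker_mk', comap_top] at this

theorem not_commutative (h : Cfsg.IsQuasisimple K) : ¬ IsMulCommutative (K ⧸ center K) := by
  intro hc
  refine Cfsg.Lib.Components.qs_not_isSolvable h ?_
  haveI : Group.IsSolvable (K ⧸ center K) :=
    Group.isSolvable_of_comm fun a b => hc.is_comm.comm a b
  haveI : Group.IsSolvable (center K) := Group.isSolvable_of_comm fun a b => Subtype.ext (mem_center_iff.1 b.2 a)
  exact Group.isSolvable_of_ker_le_range (center K).subtype (QuotientGroup.mk' (center K)) (by simp)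

theorem center_quot (h : Cfsg.IsQuasisimple K) {N : Subgroup K} [N.Normal] (hN : N ≠ ⊤) :
    center (K ⧸ N) = (center K).map (QuotientGroup.mk' N) := by
  refine le_antisymm ?_ ?_
  · intro x hx
    obtain ⟨k, rfl⟩ := QuotientGroup.mk'_surjective N x
    refine ⟨k, ?_, rfl⟩
    let W := (center (K ⧸ N)).comap (QuotientGroup.mk' N)
    by_cases hW : W = ⊤
    · exfalso
      refine not_commutative h ⟨⟨fun a b => ?_⟩⟩
      obtain ⟨a, rfl⟩ := QuotientGroup.mk'_surjective _ a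
      obtain ⟨b, rfl⟩ := QuotientGroup.mk'_surjective _ b
      have ha : QuotientGroup.mk' N a ∈ center (K ⧸ N) :=
        Subgroup.mem_comap.1 (show a ∈ W from hW ▸ mem_top a)
      have e := (mem_center_iff.1 ha (QuotientGroup.mk' N b)).symm
      rw [← map_mul, ← map_mul, QuotientGroup.mk'_apply, QuotientGroup.mk'_apply, QuotientGroup.eq] at e
      rw [← map_mul, ← map_mul, QuotientGroup.mk'_apply, QuotientGroup.mk'_apply, QuotientGroup.eq]
      exact le_center h hN e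
    · haveI : W.Normal := Subgroup.Normal.comap inferInstance _
      exact le_center h hW (Subgroup.mem_comap.2 hx)
  · rintro _ ⟨z, hz, rfl⟩
    refine mem_center_iff.2 fun g => ?_
    obtain ⟨g, rfl⟩ := QuotientGroup.mk'_surjective N g
    rw [← map_mul, ← map_mul, mem_center_iff.1 hz g]

theorem quot_equiv (h : Cfsg.IsQuasisimple K) {N : Subgroup K} [N.Normal] (hN : N ≠ ⊤) :
    Nonempty ((K ⧸ N) ⧸ center (K ⧸ N) ≃* K ⧸ center K) := by
  haveI : ((center K).map (QuotientGroup.mk' N)).Normal :=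
    Subgroup.Normal.map inferInstance _ (QuotientGroup.mk'_surjective N)
  exact ⟨(QuotientGroup.quotientMulEquivOfEq (center_quot h hN)).trans
    (QuotientGroup.quotientQuotientEquivQuotient N (center K) (le_center h hN))⟩

theorem isQuasisimple_quot (h : Cfsg.IsQuasisimple K) {N : Subgroup K} [N.Normal] (hN : N ≠ ⊤) :
    Cfsg.IsQuasisimple (K ⧸ N) := by
  haveI := h.1
  haveI := h.2
  obtain ⟨e⟩ := quot_equiv h hN
  exact ⟨Group.IsPerfect.ofSurjective (f := QuotientGroup.mk' N) (QuotientGroup.mk'_surjective N), e.isSimpleGroup⟩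

theorem isPGroup_center_quot {p : ℕ} (h : Cfsg.IsQuasisimple K) (hp : IsPGroup p (center K)) {N : Subgroup K}
    [N.Normal] (hN : N ≠ ⊤) : IsPGroup p (center (K ⧸ N)) := by
  rw [center_quot h hN]
  exact hp.map _

theorem card_center [Finite K] (h : Cfsg.IsQuasisimple K) {N : Subgroup K} [N.Normal] (hN : N ≠ ⊤) :
    Nat.card (center K) = Nat.card (center (K ⧸ N)) * Nat.card N := by
  have hle := le_center h hN
  have h2 : (center (K ⧸ N)).comap (QuotientGroup.mk' N) = center K := by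
    rw [center_quot h hN, comap_map_eq, QuotientGroup.ker_mk', sup_eq_left.2 hle]
  have h3 := Subgroup.index_comap_of_surjective (center (K ⧸ N)) (QuotientGroup.mk'_surjective N)
  rw [h2] at h3
  have h4 := (center K).card_mul_index
  have h5 := (center (K ⧸ N)).card_mul_index
  have h6 := Subgroup.card_eq_card_quotient_mul_card_subgroup N
  have hpos : 0 < (center K).index := Nat.pos_of_ne_zero Subgroup.index_ne_zero_of_finite
  rw [← h3, ← h5] at *
  exact Nat.eq_of_mul_eq_mul_right hpos (by rw [h4, h6]; ring)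

theorem eq_bot_of_card_center_le [Finite K] (h : Cfsg.IsQuasisimple K) {N : Subgroup K} [N.Normal] (hN : N ≠ ⊤)
    (hc : Nat.card (center K) ≤ Nat.card (center (K ⧸ N))) : N = ⊥ := by
  rw [card_center h hN] at hc
  have hpos : 0 < Nat.card (center (K ⧸ N)) := Nat.card_pos
  exact Subgroup.card_eq_one.1 (le_antisymm (Nat.le_of_mul_le_mul_left (by simpa using hc) hpos) Nat.card_pos)

theorem isStemExtension_mk (h : Cfsg.IsQuasisimple K) {N : Subgroup K} [N.Normal] (hN : N ≠ ⊤) {S : Type v}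
    [Group S] (e : K ⧸ N ≃* S) :
    Cfsg.IsStemExtension (e.toMonoidHom.comp (QuotientGroup.mk' N)) ∧
      (e.toMonoidHom.comp (QuotientGroup.mk' N)).ker = N := by
  have hk : (e.toMonoidHom.comp (QuotientGroup.mk' N)).ker = N := by
    ext x
    simp
  refine ⟨⟨e.surjective.comp (QuotientGroup.mk'_surjective N), ?_, ?_⟩, hk⟩
  · rw [hk]; exact le_center h hN
  · haveI := h.1
    rw [Group.IsPerfect.commutator_eq_top]; exact le_top

theorem card_ker_dvd {Q : Type v} [Group Q] [Finite Q] {A : Type w} [CommGroup A]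
    (hA : Cfsg.HasSchurMultiplier Q A) {Γ : Type u} [Group Γ] {σ : Γ →* Q} (hσ : Cfsg.IsStemExtension σ) :
    Nat.card σ.ker ∣ Nat.card A := by
  obtain ⟨e⟩ := (Cfsg.Lib.Schur.hasSchurMultiplier_iff (Cfsg.Lib.Schur.canon_surjective Q)).mp hA
  obtain ⟨f, hf⟩ := Cfsg.Lib.Schur.exists_surj hσ (Cfsg.Lib.Schur.canon_surjective Q)
  rw [Nat.card_congr e.toEquiv]
  exact Subgroup.card_dvd_of_surjective f hf

/-- The order of a `p`-subgroup dividing the order of a multiplier divides its `p`-part. -/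
theorem card_dvd_pow {p : ℕ} (hp : p.Prime) {A : Type v} [Group A] [Finite A] (hA : IsPGroup p A) {m k : ℕ}
    (hd : Nat.card A ∣ p ^ k * m) (hm : ¬ p ∣ m) : Nat.card A ∣ p ^ k := by
  haveI : Fact p.Prime := ⟨hp⟩
  obtain ⟨a, ha⟩ := IsPGroup.iff_card.1 hA
  rw [ha] at hd ⊢
  exact ((hp.coprime_iff_not_dvd.2 hm).pow_left a).dvd_of_dvd_mul_right hd

theorem center_eq_bot_of_simple (h : Cfsg.IsQuasisimple K) (hs : IsSimpleGroup K) : center K = ⊥ :=
  (inferInstance : (center K).Normal).eq_bot_or_eq_top.resolve_right (Cfsg.Lib.Components.qs_center_ne_top h)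

theorem quot_bot_equiv {N : Subgroup K} [N.Normal] (hN : N = ⊥) : Nonempty (K ⧸ N ≃* K) := by
  subst hN
  exact ⟨QuotientGroup.quotientBot⟩

section congr

variable {K' : Type v} [Group K']

theorem nonempty_congr (e : K ≃* K') {X : Type w} [Group X] (h : Nonempty (K ≃* X)) : Nonempty (K' ≃* X) :=
  h.map e.symm.trans

theorem center_card_congr (e : K ≃* K') : Nat.card (center K) = Nat.card (center K') :=
  Nat.card_congr (Subgroup.centerCongr e).toEquiv

theorem center_quot_congr (e : K ≃* K') : Nonempty (K ⧸ center K ≃* K' ⧸ center K') := by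
  refine ⟨QuotientGroup.congr _ _ e ?_⟩
  ext x
  simp only [mem_map, mem_center_iff]
  constructor
  · rintro ⟨y, hy, rfl⟩ g
    obtain ⟨g, rfl⟩ := e.surjective g
    simp only [MonoidHom.coe_coe, ← map_mul]
    rw [hy]
  · intro hx
    refine ⟨e.symm x, fun g => ?_, by simp⟩
    apply e.injective
    simpa using hx (e g)

theorem exists_center_order_congr (e : K ≃* K') {n : ℕ} (h : ∃ z ∈ center K, orderOf z = n) :
    ∃ z ∈ center K', orderOf z = n := by
  obtain ⟨z, hz, ho⟩ := h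
  exact ⟨_, (Subgroup.centerCongr e ⟨z, hz⟩).2, by
    rw [Subgroup.orderOf_coe, MulEquiv.orderOf_eq, ← Subgroup.orderOf_coe]; exact ho⟩

theorem isCpSimple_congr (e : K ≃* K') {p : ℕ} (h : Cfsg.IsCpSimple p K) : Cfsg.IsCpSimple p K' := by
  have h1 : ∀ (X : Type) [Group X], Nonempty (K ≃* X) ↔ Nonempty (K' ≃* X) := fun X _ =>
    ⟨fun ⟨f⟩ => ⟨e.symm.trans f⟩, fun ⟨f⟩ => ⟨e.trans f⟩⟩
  simp only [Cfsg.IsCpSimple, Cfsg.IsChevSimple, Cfsg.IsLieTypeChar, Cfsg.IsPSLChar, Cfsg.IsPSpChar,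
    Cfsg.IsPSUChar, Cfsg.IsPOmegaOddChar, Cfsg.IsPOmegaPlusChar, Cfsg.IsPOmegaMinusChar,
    Cfsg.IsExceptionalChevChar, Cfsg.IsTwistedE6D4Char, Cfsg.IsCTwoListed, Cfsg.IsCThreeListed,
    Cfsg.IsCFiveListed, Cfsg.Lie.IsoSuzuki, Cfsg.Lie.IsoRee, Cfsg.Lie.Iso2F4, Cfsg.Lie.IsoTits,
    Cfsg.Spor.IsoM11, Cfsg.Spor.IsoM12, Cfsg.Spor.IsoM22, Cfsg.Spor.IsoM23, Cfsg.Spor.IsoM24,
    Cfsg.Spor.IsoJ2, Cfsg.Spor.IsoJ3, Cfsg.Spor.IsoJ4,
    Cfsg.Spor.IsoCo1, Cfsg.Spor.IsoCo2, Cfsg.Spor.IsoCo3, Cfsg.Spor.IsoMcL, Cfsg.Spor.IsoHS, Cfsg.Spor.IsoSuz,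
    Cfsg.Spor.IsoHe, Cfsg.Spor.IsoRu, Cfsg.Spor.IsoON, Cfsg.Spor.IsoLy, Cfsg.Spor.IsoFi22, Cfsg.Spor.IsoFi23,
    Cfsg.Spor.IsoFi24', Cfsg.Spor.IsoHN, Cfsg.Spor.IsoTh, Cfsg.Spor.IsoB, Cfsg.Spor.IsoM,
    h1] at h ⊢
  exact h

theorem isCpException_congr (e : K ≃* K') {p : ℕ} (h : Cfsg.IsCpException p K) : Cfsg.IsCpException p K' := by
  obtain ⟨q⟩ := center_quot_congr e
  have hc := center_card_congr e
  rcases h with ⟨hp, h⟩ | ⟨hp, hz, h⟩
  · refine Or.inl ⟨hp, ?_⟩
    rcases h with ⟨F, i1, i2, hF, h⟩ | ⟨hz, h⟩ | ⟨F, i1, i2, hF, h⟩ | ⟨F, i1, i2, hF, h⟩ | ⟨⟨F, i1, i2, hF, h⟩, hz⟩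
    · exact Or.inl ⟨F, i1, i2, hF, nonempty_congr e h⟩
    · exact Or.inr (Or.inl ⟨hc ▸ hz, nonempty_congr q h⟩)
    · exact Or.inr (Or.inr (Or.inl ⟨F, i1, i2, hF, h.imp (nonempty_congr e) (nonempty_congr e)⟩))
    · exact Or.inr (Or.inr (Or.inr (Or.inl ⟨F, i1, i2, hF, nonempty_congr e h⟩)))
    · exact Or.inr (Or.inr (Or.inr (Or.inr ⟨⟨F, i1, i2, hF, nonempty_congr q h⟩, exists_center_order_congr e hz⟩)))
  · exact Or.inr ⟨hp, hc ▸ hz, h.imp (nonempty_congr q) (fun h => nonempty_congr q h)⟩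

end congr

end Cfsg.Lib.CpQuot
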